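import Cfsg.Agent.DS.Nt.Kac

/-!
# S5765, exceptional groups: the number of roots trivial on an element of prime order (helper52)

`nK D l r c` is the number of roots `a` with `r ∣ bb c a`; `nK_F4`, `nK_E6`, `nK_E7`, `nK_E8` are the bounds, `nK_E6'` describes the
type `D₅ T₁`.
-/

set_option autoImplicit false
set_option linter.unusedSectionVars false
set_option maxRecDepth 100000

namespace Cfsg.Agent.SB.Exc.CI

open CoxeterSystem Cfsg Cfsg.Lie Cfsg.Lie.ChevalleyDatum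
open Cfsg.Agent.ChevalleyStructure Cfsg.Agent.ChevalleyStructure.Elts Cfsg.Agent.ChevalleyStructure.CoxeterGeom
  Cfsg.Agent.ChevalleyStructure.CoxeterGeomTypes
open Cfsg.Agent.Tits.Roots Cfsg.Agent.Nodes.RGDChev
open Cfsg.Agent.H931.KC Cfsg.Agent.DS.Nt

/-- the number of roots trivial on the element with Kac coordinates `c` -/
def nK (D : ChevalleyDatum) (l r : ℕ) (c : Fin l → ℕ) : ℕ :=
  (Finset.univ.filter fun s : Fin D.nroots => (r : ℤ) ∣ bb c (vec D l s)).card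

/-- the number of roots with `a i = 0` -/
def n1 (D : ChevalleyDatum) (l : ℕ) (i : Fin l) : ℕ := (Finset.univ.filter fun s : Fin D.nroots => vec D l s i = 0).card

/-- the number of roots with `a i = a j = 0` -/
def n2 (D : ChevalleyDatum) (l : ℕ) (i j : Fin l) : ℕ :=
  (Finset.univ.filter fun s : Fin D.nroots => vec D l s i = 0 ∧ vec D l s j = 0).card

/-- the number of roots of the subsystem of the extended diagram without the nodes `i` and `j` -/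
def n3 (D : ChevalleyDatum) (l : ℕ) (i j : Fin l) : ℕ :=
  (Finset.univ.filter fun s : Fin D.nroots => vec D l s i = 0 ∧ vec D l s j = 0 ∨
    vec D l s i = hr D l i ∧ vec D l s j = hr D l j ∨ vec D l s i = -hr D l i ∧ vec D l s j = -hr D l j).card

theorem tabF4 : (∀ i, n1 chevF4 4 i ≤ 18) ∧ (∀ i j, i ≠ j → n3 chevF4 4 i j ≤ 18) ∧
    ∀ i, nri chevF4 4 (hr chevF4 4 i).toNat i ≤ 32 := by decide +kernel

theorem tabE6 : (∀ i, n1 chevE6 6 i ≤ 40) ∧ (∀ i j, i ≠ j → n3 chevE6 6 i j ≤ 40) ∧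
    ∀ i, hr chevE6 6 i ≠ 1 → nri chevE6 6 (hr chevE6 6 i).toNat i ≤ 32 := by decide +kernel

theorem tabE6' : (∀ i, i ≠ 0 → i ≠ 5 → n1 chevE6 6 i ≤ 32) ∧ (∀ i j, i ≠ j → n2 chevE6 6 i j ≤ 32) ∧
    ∀ i j, i ≠ j → j ≠ 0 → j ≠ 5 → n3 chevE6 6 i j ≤ 32 := by decide +kernel

theorem tabE7 : (∀ i, n1 chevE7 7 i ≤ 72) ∧ (∀ i j, i ≠ j → n3 chevE7 7 i j ≤ 72) ∧
    ∀ i, hr chevE7 7 i ≠ 1 → nri chevE7 7 (hr chevE7 7 i).toNat i ≤ 72 := by decide +kernel

theorem tabE8 : (∀ i, n1 chevE8 8 i ≤ 128) ∧ (∀ i j, i ≠ j → n3 chevE8 8 i j ≤ 128) ∧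
    ∀ i, nri chevE8 8 (hr chevE8 8 i).toNat i ≤ 128 := by decide +kernel

theorem small6 : ∀ s : Fin chevE6.nroots, (vec chevE6 6 s 0 ≤ 1 ∧ -1 ≤ vec chevE6 6 s 0) ∧
    (vec chevE6 6 s 5 ≤ 1 ∧ -1 ≤ vec chevE6 6 s 5) ∧
    vec chevE6 6 s 0 - vec chevE6 6 s 5 ≤ 1 ∧ -1 ≤ vec chevE6 6 s 0 - vec chevE6 6 s 5 := by decide +kernel

theorem cent6 : ∀ i : Fin 6, (3 : ℤ) ∣ pairing (cartanOf chevE6 6) i ![1, 0, -1, 0, 1, -1] := by decide +kernel

variable {D : ChevalleyDatum} {l : ℕ} {M : CoxeterMatrix (Fin l)} (hp : IsType D l M) {r : ℕ} {c : Fin l → ℕ} {c0 : ℕ}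

include hp in
theorem dvd_cases (K : Kac D l r c c0) (s : Fin D.nroots) (h : (r : ℤ) ∣ bb c (vec D l s)) :
    (∀ i, c i ≠ 0 → vec D l s i = 0) ∨
      (c0 = 0 ∧ ((∀ i, c i ≠ 0 → vec D l s i = hr D l i) ∨ ∀ i, c i ≠ 0 → vec D l s i = -hr D l i)) := by
  have ha := isRoot_vec hp M.toCoxeterSystem s.2
  by_cases h0 : 0 ≤ vec D l s
  · rcases (dvd_iff hp K ha h0).1 h with h1 | ⟨h1, h2⟩
    · exact Or.inl fun i hi => not_not.1 fun h => hi (h1 i h)
    · exact Or.inr ⟨h1, Or.inl fun i hi => not_not.1 fun h => hi (h2 i h)⟩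
  · have h' : (r : ℤ) ∣ bb c (-vec D l s) := by
      rw [map_neg]
      exact h.neg_right
    rcases (dvd_iff hp K ha.neg (neg_of_not hp ha h0)).1 h' with h1 | ⟨h1, h2⟩
    · exact Or.inl fun i hi => neg_eq_zero.1 (not_not.1 fun h => hi (h1 i h))
    · exact Or.inr ⟨h1, Or.inr fun i hi => neg_eq_iff_eq_neg.1 (not_not.1 fun h => hi (h2 i h))⟩

include hp in
theorem nK_le_n1 (K : Kac D l r c c0) (h0 : c0 ≠ 0) {i : Fin l} (hi : c i ≠ 0) : nK D l r c ≤ n1 D l i :=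
  Finset.card_le_card fun s hs => by
    rw [Finset.mem_filter] at hs ⊢
    rcases dvd_cases hp K s hs.2 with h | ⟨h, -⟩
    · exact ⟨hs.1, h i hi⟩
    · exact absurd h h0

include hp in
theorem nK_le_n2 (K : Kac D l r c c0) (h0 : c0 ≠ 0) {i j : Fin l} (hi : c i ≠ 0) (hj : c j ≠ 0) :
    nK D l r c ≤ n2 D l i j :=
  Finset.card_le_card fun s hs => by
    rw [Finset.mem_filter] at hs ⊢
    rcases dvd_cases hp K s hs.2 with h | ⟨h, -⟩
    · exact ⟨hs.1, h i hi, h j hj⟩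
    · exact absurd h h0

include hp in
theorem nK_le_n3 (K : Kac D l r c c0) {i j : Fin l} (hi : c i ≠ 0) (hj : c j ≠ 0) : nK D l r c ≤ n3 D l i j :=
  Finset.card_le_card fun s hs => by
    rw [Finset.mem_filter] at hs ⊢
    rcases dvd_cases hp K s hs.2 with h | ⟨-, h | h⟩
    · exact ⟨hs.1, Or.inl ⟨h i hi, h j hj⟩⟩
    · exact ⟨hs.1, Or.inr (Or.inl ⟨h i hi, h j hj⟩)⟩
    · exact ⟨hs.1, Or.inr (Or.inr ⟨h i hi, h j hj⟩)⟩

theorem nK_eq_nri {i : Fin l} (h : ∀ x, bb c x = x i) : nK D l r c = nri D l r i := by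
  unfold nK nri
  simp only [h]

theorem bb_single {i : Fin l} (h : ∀ j, j ≠ i → c j = 0) (x : Fin l → ℤ) : bb c x = x i * c i := by
  show ∑ j, x j * (c j : ℤ) = _
  rw [Finset.sum_eq_single i]
  · intro j _ hj
    rw [h j hj, Nat.cast_zero, mul_zero]
  · intro h
    exact absurd (Finset.mem_univ i) h

theorem exists_ne (hne : ¬ ∀ x, (r : ℤ) ∣ bb c x) : ∃ i, c i ≠ 0 := by
  by_contra h
  push Not at h
  refine hne fun x => ?_
  show (r : ℤ) ∣ ∑ i, x i * (c i : ℤ)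
  rw [Finset.sum_eq_zero fun i _ => by rw [h i, Nat.cast_zero, mul_zero]]
  exact dvd_zero _

/-- the isolated case -/
theorem iso_case (hr' : r.Prime) (K : Kac D l r c c0) (hne : ¬ ∀ x, (r : ℤ) ∣ bb c x) (h0 : c0 = 0) {i : Fin l}
    (h1 : ∀ j, j ≠ i → c j = 0) : hr D l i = r ∧ ∀ x, bb c x = x i := by
  have hb := bb_single h1
  have h2 : hr D l i * c i = r := by
    have h3 := bb_hr K
    rw [hb, h0] at h3
    simpa using h3
  have h3 : c i ∣ r := by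
    rw [← Int.natCast_dvd_natCast, ← h2]
    exact Dvd.intro_left _ rfl
  rcases (Nat.dvd_prime hr').1 h3 with h4 | h4
  · rw [h4] at h2
    exact ⟨by simpa using h2, fun x => by rw [hb, h4]; simp⟩
  · exact absurd (fun x => by rw [hb, h4]; exact Dvd.intro_left _ rfl) hne

include hp in
theorem nK_le (hr' : r.Prime) (K : Kac D l r c c0) (hne : ¬ ∀ x, (r : ℤ) ∣ bb c x) {b : ℕ} (h1 : ∀ i, n1 D l i ≤ b)
    (h3 : ∀ i j, i ≠ j → n3 D l i j ≤ b) (h4 : ∀ i, hr D l i = r → nri D l r i ≤ b) : nK D l r c ≤ b := by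
  obtain ⟨i, hi⟩ := exists_ne hne
  by_cases h0 : c0 = 0
  · by_cases h5 : ∀ j, j ≠ i → c j = 0
    · obtain ⟨h6, h7⟩ := iso_case hr' K hne h0 h5
      rw [nK_eq_nri h7]
      exact h4 i h6
    · push Not at h5
      obtain ⟨j, hji, hj⟩ := h5
      exact (nK_le_n3 hp K hj hi).trans (h3 j i hji)
  · exact (nK_le_n1 hp K h0 hi).trans (h1 i)

theorem nri_le (hr' : r.Prime) {b : ℕ} (h : ∀ i, hr D l i ≠ 1 → nri D l (hr D l i).toNat i ≤ b) (i : Fin l)
    (hi : hr D l i = r) : nri D l r i ≤ b := by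
  have h1 := h i (by
    rw [hi]
    exact_mod_cast hr'.ne_one)
  rwa [hi, Int.toNat_natCast] at h1

theorem nK_F4 {M : CoxeterMatrix (Fin 4)} (hp : IsType chevF4 4 M) {c : Fin 4 → ℕ} (hr' : r.Prime)
    (K : Kac chevF4 4 r c c0) (hne : ¬ ∀ x, (r : ℤ) ∣ bb c x) :
    nK chevF4 4 r c ≤ 32 ∧ (r ≠ 2 → nK chevF4 4 r c ≤ 18) := by
  refine ⟨nK_le hp hr' K hne (fun i => (tabF4.1 i).trans (by norm_num))
    (fun i j h => (tabF4.2.1 i j h).trans (by norm_num)) (nri_le hr' fun i _ => tabF4.2.2 i),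
    fun h2 => nK_le hp hr' K hne tabF4.1 tabF4.2.1 fun i hi => ?_⟩
  rw [hrF4] at hi
  fin_cases i
  · exact absurd (by simp at hi; omega) h2
  · obtain rfl : r = 4 := by simp at hi; omega
    exact absurd hr' (by norm_num)
  · obtain rfl : r = 3 := by simp at hi; omega
    exact nri_F4.2.2.le.trans (by norm_num)
  · exact absurd (by simp at hi; omega) h2

theorem nK_E6 {M : CoxeterMatrix (Fin 6)} (hp : IsType chevE6 6 M) {c : Fin 6 → ℕ} (hr' : r.Prime)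
    (K : Kac chevE6 6 r c c0) (hne : ¬ ∀ x, (r : ℤ) ∣ bb c x) : nK chevE6 6 r c ≤ 40 :=
  nK_le hp hr' K hne tabE6.1 tabE6.2.1 fun i hi => (nri_le hr' tabE6.2.2 i hi).trans (by norm_num)

theorem nK_E7 {M : CoxeterMatrix (Fin 7)} (hp : IsType chevE7 7 M) {c : Fin 7 → ℕ} (hr' : r.Prime)
    (K : Kac chevE7 7 r c c0) (hne : ¬ ∀ x, (r : ℤ) ∣ bb c x) : nK chevE7 7 r c ≤ 72 :=
  nK_le hp hr' K hne tabE7.1 tabE7.2.1 (nri_le hr' tabE7.2.2)

theorem nK_E8 {M : CoxeterMatrix (Fin 8)} (hp : IsType chevE8 8 M) {c : Fin 8 → ℕ} (hr' : r.Prime)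
    (K : Kac chevE8 8 r c c0) (hne : ¬ ∀ x, (r : ℤ) ∣ bb c x) : nK chevE8 8 r c ≤ 128 :=
  nK_le hp hr' K hne tabE8.1 tabE8.2.1 (nri_le hr' fun i _ => tabE8.2.2 i)

/-- the functionals of the type `D₅ T₁` -/
def Min6 (f : (Fin 6 → ℤ) → ℤ) : Prop := (∀ x, f x = x 0) ∨ (∀ x, f x = x 5) ∨ ∀ x, f x = x 0 - x 5

/-- the type `D₅ T₁` -/
theorem nK_E6' {M : CoxeterMatrix (Fin 6)} (hp : IsType chevE6 6 M) {c : Fin 6 → ℕ} (hr' : r.Prime)
    (K : Kac chevE6 6 r c c0) (hne : ¬ ∀ x, (r : ℤ) ∣ bb c x) :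
    nK chevE6 6 r c ≤ 32 ∨ ∃ (f : (Fin 6 → ℤ) → ℤ) (m : ℤ), Min6 f ∧ ∀ x, (r : ℤ) ∣ bb c x - m * f x := by
  obtain ⟨i, hi⟩ := exists_ne hne
  by_cases h5 : ∀ j, j ≠ i → c j = 0
  · by_cases h0 : c0 = 0
    · obtain ⟨h6, h7⟩ := iso_case hr' K hne h0 h5
      rw [nK_eq_nri h7]
      exact Or.inl (nri_le hr' tabE6.2.2 i h6)
    · by_cases h6 : i = 0
      · subst h6
        exact Or.inr ⟨fun x => x 0, c 0, Or.inl fun _ => rfl, fun x => by rw [bb_single h5, mul_comm, sub_self]; exact dvd_zero _⟩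
      by_cases h7 : i = 5
      · subst h7
        exact Or.inr ⟨fun x => x 5, c 5, Or.inr (Or.inl fun _ => rfl),
          fun x => by rw [bb_single h5, mul_comm, sub_self]; exact dvd_zero _⟩
      exact Or.inl ((nK_le_n1 hp K h0 hi).trans (tabE6'.1 i h6 h7))
  · push Not at h5
    obtain ⟨j, hji, hj⟩ := h5
    by_cases h0 : c0 = 0
    · by_cases h6 : ∀ m, m ≠ 0 → m ≠ 5 → c m = 0
      · have h7 : (c0 : ℤ) + (c 0 + 2 * c 1 + 2 * c 2 + 3 * c 3 + 2 * c 4 + c 5) = r := by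
          have h8 := K.sum
          rw [hrE6, Fin.sum_univ_six] at h8
          simpa using h8
        have hb : ∀ x, bb c x = x 0 * c 0 + x 1 * c 1 + x 2 * c 2 + x 3 * c 3 + x 4 * c 4 + x 5 * c 5 := fun x => by
          show ∑ i, x i * (c i : ℤ) = _
          rw [Fin.sum_univ_six]
        rw [h0, h6 1 (by decide) (by decide), h6 2 (by decide) (by decide), h6 3 (by decide) (by decide),
          h6 4 (by decide) (by decide)] at h7
        refine Or.inr ⟨fun x => x 0 - x 5, c 0, Or.inr (Or.inr fun _ => rfl), fun x => ⟨x 5, ?_⟩⟩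
        rw [hb, h6 1 (by decide) (by decide), h6 2 (by decide) (by decide), h6 3 (by decide) (by decide),
          h6 4 (by decide) (by decide), ← h7]
        push_cast
        ring
      · push Not at h6
        obtain ⟨m, h7, h8, hm⟩ := h6
        by_cases h9 : i = m
        · subst h9
          exact Or.inl ((nK_le_n3 hp K hj hm).trans (tabE6'.2.2 j i hji h7 h8))
        · exact Or.inl ((nK_le_n3 hp K hi hm).trans (tabE6'.2.2 i m h9 h7 h8))
    · exact Or.inl ((nK_le_n2 hp K h0 hj hi).trans (tabE6'.2.1 j i hji))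

/-- the Weyl group of `E₆` fixes a vector modulo `3` -/
theorem rep_cent6 {M : CoxeterMatrix (Fin 6)} (hp : IsType chevE6 6 M) (w : M.Group) (j : Fin 6) :
    (3 : ℤ) ∣ rep M.toCoxeterSystem hp.isCartan w ![1, 0, -1, 0, 1, -1] j - (![1, 0, -1, 0, 1, -1] : Fin 6 → ℤ) j := by
  induction w using M.toCoxeterSystem.simple_induction_right generalizing j with
  | one => rw [map_one, Module.End.one_apply, sub_self]; exact dvd_zero _
  | mul_simple_right w i ih =>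
    obtain ⟨m, hm⟩ := cent6 i
    rw [rep_mul_apply, rep_simple_eq, map_sub, map_zsmul, Pi.sub_apply, Pi.smul_apply, smul_eq_mul, hm, sub_right_comm,
      mul_assoc]
    exact dvd_sub (ih j) (Dvd.intro _ rfl)

/-- no element of the Weyl group multiplies a minuscule functional by `2` modulo an odd prime -/
theorem Min6.not_two {M : CoxeterMatrix (Fin 6)} (hp : IsType chevE6 6 M) {f : (Fin 6 → ℤ) → ℤ} (hf : Min6 f)
    (hr' : r.Prime) (h2 : r ≠ 2) (w : M.Group) :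
    ¬ ∀ x, (r : ℤ) ∣ f (rep M.toCoxeterSystem hp.isCartan w x) - 2 * f x := by
  intro h
  have hs : ∀ a, IsRoot M.toCoxeterSystem hp.isCartan a → f a ≤ 1 ∧ -1 ≤ f a := fun a ha => by
    obtain ⟨s, hs, rfl⟩ := (isRoot_iff hp M.toCoxeterSystem a).1 ha
    have h1 := small6 ⟨s, hs⟩
    rcases hf with hf | hf | hf <;> rw [hf]
    exacts [h1.1, h1.2.1, h1.2.2]
  obtain ⟨i, hi⟩ : ∃ i, f (sr i) = 1 := by
    rcases hf with hf | hf | hf
    · exact ⟨0, by rw [hf, sr_self]⟩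
    · exact ⟨5, by rw [hf, sr_self]⟩
    · exact ⟨0, by rw [hf, sr_self, sr_ne (by decide), sub_zero]⟩
  have h3 : r = 3 := by
    have h4 := h (sr i)
    have h5 := hs _ ((isRoot_sr M.toCoxeterSystem hp.isCartan i).act w)
    rw [hi] at h4
    have h6 := Int.le_of_dvd (a := r) (b := 2 * 1 - f (rep M.toCoxeterSystem hp.isCartan w (sr i))) (by omega)
      (dvd_sub_comm.1 h4)
    have h7 := hr'.two_le
    omega
  subst h3
  have h4 := h ![1, 0, -1, 0, 1, -1]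
  have h5 := rep_cent6 hp w 0
  have h6 := rep_cent6 hp w 5
  have e0 : (![1, 0, -1, 0, 1, -1] : Fin 6 → ℤ) 0 = 1 := rfl
  have e5 : (![1, 0, -1, 0, 1, -1] : Fin 6 → ℤ) 5 = -1 := rfl
  rw [e0] at h5
  rw [e5] at h6
  rcases hf with hf | hf | hf
  · rw [hf, hf, e0] at h4
    omega
  · rw [hf, hf, e5] at h4
    omega
  · rw [hf, hf, e0, e5] at h4
    omega

end Cfsg.Agent.SB.Exc.CI
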