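import Cfsg.Agent.SB.Exc.CI.Red
import Cfsg.Agent.SB.Exc.CI.Tab

/-!
# S5765, exceptional groups: centralizers of semisimple elements of prime order (helper52)

`boxCI : BoxCI`, `boxCI6 : BoxCI6`.
-/

set_option autoImplicit false
set_option linter.unusedSectionVars false

namespace Cfsg.Agent.SB.Exc

open CoxeterSystem Cfsg Cfsg.Lie Cfsg.Lie.ChevalleyDatum
open Cfsg.Agent.ChevalleyStructure Cfsg.Agent.ChevalleyStructure.Elts Cfsg.Agent.ChevalleyStructure.CoxeterGeom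
  Cfsg.Agent.ChevalleyStructure.CoxeterGeomTypes
open Cfsg.Agent.Tits.Roots Cfsg.Agent.Tits.Core Cfsg.Agent.Nodes Cfsg.Agent.Nodes.Reps Cfsg.Agent.Nodes.BNOf
  Cfsg.Agent.Nodes.RGDChev Cfsg.Agent.Nodes.Bruhat
open Cfsg.Agent.KFacts.RgdField Cfsg.Agent.KFacts.RgdChevCoord
open Cfsg.Agent.BpExc Cfsg.Agent.BpExc.TorCent Cfsg.Agent.BpExc.TorChev Cfsg.Agent.BpExc.Tow
  Cfsg.Agent.BpExc.TowChev Cfsg.Agent.BpExc.Fr Cfsg.Agent.BpExc.LangFr
open Cfsg.Agent.H469.Exc Cfsg.Agent.H795.SetCent Cfsg.Agent.H129.TorusChar Cfsg.Agent.DS.Ex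
open Cfsg.Agent.H931.KC Cfsg.Agent.DS.Nt

namespace CI

variable {D : ChevalleyDatum} {l : ℕ} {M : CoxeterMatrix (Fin l)} {hp : IsType D l M} {p : ℕ} [Fact p.Prime]
  {e : ℕ} {σ : MulAut (YY D p)} {g : (Fin l → ℤ) ≃+ (Fin l → ℤ)}

/-- the standard situation: `t` in Kac form, fixed by `σ` -/
structure Sit (hp : IsType D l M) (e : ℕ) (σ : MulAut (YY D p)) (g : (Fin l → ℤ) ≃+ (Fin l → ℤ)) (r : ℕ) (t : YY D p)
    (ζ : KK p) (c : Fin l → ℕ) (c0 : ℕ) : Prop where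
  he : 0 < e
  frob : IsFrob p e σ
  fr : Fr M.toCoxeterSystem hp.isCartan (TT D (KK p)) (XX D l (KK p)) σ g
  prime : r.Prime
  ne : r ≠ p
  prim : IsPrimitiveRoot ζ r
  kac : Kac D l r c c0
  mem : t ∈ TT D (KK p)
  chr : ∀ a, cX hp t a = ζ ^ bb c a
  nt : ¬ ∀ a, (r : ℤ) ∣ bb c a
  fix : σ t = t
  pow : t ^ r = 1

theorem exists_sit (he : 0 < e) (hσ : IsFrob p e σ)
    (Φ : Fr M.toCoxeterSystem hp.isCartan (TT D (KK p)) (XX D l (KK p)) σ g) {y : YY D p} (hy : σ y = y)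
    (h1 : (orderOf y).Prime) (h2 : orderOf y ≠ p) : ∃ (x : YY D p) (σ' : MulAut (YY D p)) (w : M.Group) (ζ : KK p)
      (c : Fin l → ℕ) (c0 : ℕ), Sit hp e σ' (g.trans (repAut M.toCoxeterSystem hp.isCartan w)) (orderOf y) (x * y * x⁻¹) ζ c c0 ∧
      Nat.card ↥(DL.fix σ ⊓ Subgroup.centralizer {y}) =
        Nat.card ↥(DL.fix σ' ⊓ Subgroup.centralizer {x * y * x⁻¹}) := by
  obtain ⟨x, ζ, c, c0, a1, a2, a3, a4, a5⟩ := exists_kacform hp h1 h2 (pow_orderOf_eq_one y) fun h => by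
    rw [h, orderOf_one] at h1
    exact Nat.not_prime_one h1
  obtain ⟨σ', w, b1, b2, b3, b4⟩ := exists_red (hp := hp) he hσ Φ hy a3
  exact ⟨x, σ', w, ζ, c, c0, ⟨he, b1, b2, h1, h2, a1, a2, a3, a4, a5, b3,
    by rw [conj_pow, pow_orderOf_eq_one, mul_one, mul_inv_cancel]⟩, b4⟩

namespace Sit

variable {r : ℕ} {t : YY D p} {ζ : KK p} {c : Fin l → ℕ} {c0 : ℕ} (S : Sit hp e σ g r t ζ c c0)
include S

theorem dd_eq : dd p t = l + nK D l r c := dd_tor_zpow hp S.mem S.prim (f := bb c) S.chr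

theorem card_le {n : ℕ} (hn : dd p t ≤ l + n) :
    Nat.card ↥(DL.fix σ ⊓ Subgroup.centralizer {t}) ≤ nmk D l * ((p ^ e) ^ n * (p ^ e + 1) ^ l) :=
  (card_cen (hp := hp) S.prime S.ne S.mem S.pow _).trans (Nat.mul_le_mul_left _ (card_DZ S.he S.frob S.fr S.mem S.fix hn))

theorem card_le' {n : ℕ} (hn : nK D l r c ≤ n) :
    Nat.card ↥(DL.fix σ ⊓ Subgroup.centralizer {t}) ≤ nmk D l * ((p ^ e) ^ n * (p ^ e + 1) ^ l) :=
  S.card_le (by rw [S.dd_eq]; omega)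

theorem card_conn (h : ∀ c : YY D p, c * t = t * c → c ∈ DZ hp p {t}) {n : ℕ} (hn : nK D l r c ≤ n) :
    Nat.card ↥(DL.fix σ ⊓ Subgroup.centralizer {t}) ≤ (p ^ e) ^ n * (p ^ e + 1) ^ l := by
  rw [cen_eq S.mem h]
  exact card_DZ S.he S.frob S.fr S.mem S.fix (by rw [S.dd_eq]; omega)

theorem two_le : 2 ≤ p ^ e := (Fact.out : p.Prime).two_le.trans (Nat.le_self_pow S.he.ne' p)

theorem dvd_act (x : Fin l → ℤ) : (r : ℤ) ∣ bb c (g x) - (p ^ e : ℕ) * bb c x := by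
  have h1 := cX_sigma hp M.toCoxeterSystem S.frob S.fr S.mem x
  rw [S.fix, S.chr, S.chr, ← zpow_natCast, ← zpow_mul] at h1
  have h0 := S.prim.ne_zero S.prime.ne_zero
  rw [← S.prim.zpow_eq_one_iff_dvd, zpow_sub₀ h0, h1, mul_comm, div_self (zpow_ne_zero _ h0)]

/-- a non-isolated element with connected centralizer -/
theorem lc (hD : Typ D) (h : ∀ c : YY D p, c * t = t * c → c ∈ DZ hp p {t}) {f : (Fin l → ℤ) →+ ℤ}
    (hf : ∀ a, IsRoot M.toCoxeterSystem hp.isCartan a → (r : ℤ) ∣ bb c a → f a = 0) {x : Fin l → ℤ} (hx0 : 0 < f x)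
    (hx6 : f x ≤ 6) : LC p t := by
  intro s hs
  obtain ⟨lam, hlam⟩ := exists_prim (p := p) hs.1 hs.2.2
  obtain ⟨b, hb, hbX⟩ := exists_tor_zpow hp hD (hlam.ne_zero hs.1.ne_zero) f
  have hZ : ({t} : Set (YY D p)) ⊆ TT D (KK p) := Set.singleton_subset_iff.2 S.mem
  refine ⟨b, fun h9 => ?_, pow_eq_one_of_cX (hp := hp) hb fun x => ?_, fun y hy => comm_DZ hb (fun a ha => ?_) (h y hy)⟩
  · have h10 := hbX x
    rw [h9, cX_one, eq_comm, hlam.zpow_eq_one_iff_dvd] at h10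
    have h11 := Int.le_of_dvd hx0 h10
    have h12 := hs.2.1
    omega
  · rw [hbX, ← zpow_natCast, ← zpow_mul, mul_comm, zpow_mul, zpow_natCast, hlam.pow_eq_one, one_zpow]
  · have h6 := (mem_Ps hZ).1 ha
    have h7 := h6.2 _ rfl
    rw [S.chr, S.prim.zpow_eq_one_iff_dvd] at h7
    rw [hbX, hf a h6.1 h7, zpow_zero]

end Sit

theorem lc_of_conj {x y : YY D p} (h : LC p (x * y * x⁻¹)) : LC p y := by
  intro s hs
  obtain ⟨b, h1, h2, h3⟩ := h s hs
  refine ⟨x⁻¹ * b * x, fun h4 => h1 ?_, ?_, fun c hc => comm_of_conj (h3 _ (conj_comm hc))⟩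
  · have e : b = x * (x⁻¹ * b * x) * x⁻¹ := by group
    rw [e, h4, mul_one, mul_inv_cancel]
  · have e : x⁻¹ * b * x = x⁻¹ * b * x⁻¹⁻¹ := by rw [inv_inv]
    rw [e, conj_pow, h2, mul_one, mul_inv_cancel]

/-- `E₆`: the centralizer is connected or small -/
theorem Sit.conn6 {M : CoxeterMatrix (Fin 6)} {hp : IsType chevE6 6 M} {σ : MulAut (YY chevE6 p)}
    {g : (Fin 6 → ℤ) ≃+ (Fin 6 → ℤ)} {r : ℕ} {t : YY chevE6 p} {ζ : KK p} {c : Fin 6 → ℕ} {c0 : ℕ}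
    (S : Sit hp e σ g r t ζ c c0) : (∀ c : YY chevE6 p, c * t = t * c → c ∈ DZ hp p {t}) ∨
      Nat.card ↥(DL.fix σ ⊓ Subgroup.centralizer {t}) ≤ 3 * ((p ^ e) ^ 24 * (p ^ e + 1) ^ 6) := by
  rcases (DZ_one hp (Or.inr (Or.inl rfl)) S.prime S.ne S.mem S.pow).2 with h | ⟨-, -, h⟩ | ⟨h, -⟩
  · exact Or.inl h
  · have h1 := S.card_le (n := 24) (by omega)
    rw [nmk_E6] at h1
    exact Or.inr h1
  · exact absurd (congrArg ChevalleyDatum.rank h) (by decide)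

theorem three_le {q n : ℕ} (hq : 2 ≤ q) (a : ℕ) : 3 * (q ^ n * a) ≤ q ^ (n + 2) * a := by
  rw [← mul_assoc, pow_add, mul_comm (q ^ n)]
  exact Nat.mul_le_mul_right _ (Nat.mul_le_mul_right _ ((by norm_num : 3 ≤ 2 ^ 2).trans (Nat.pow_le_pow_left hq 2)))

end CI

open CI

/-- [CI] -/
theorem boxCI : BoxCI := by
  intro D l M hp hD p _ e σ g he hσ Φ y hy h1 h2
  obtain ⟨x, σ', w, ζ, c, c0, S, h⟩ := exists_sit (hp := hp) he hσ Φ hy h1 h2
  rw [h]
  have hl := typ_l hp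
  rcases hD with rfl | rfl | rfl | rfl
  · obtain rfl := hl.1 rfl
    have h3 := nK_F4 hp S.prime S.kac S.nt
    rw [bI, if_pos rfl]
    split_ifs with h4
    · have h5 := S.card_le' (h3.2 (h4 ▸ h2))
      rwa [nmk_F4, one_mul] at h5
    · have h5 := S.card_le' h3.1
      rwa [nmk_F4, one_mul] at h5
  · obtain rfl := hl.2.1 rfl
    rw [bI, if_neg (by norm_num), if_pos rfl]
    rcases S.conn6 with h3 | h3
    · exact S.card_conn h3 (nK_E6 hp S.prime S.kac S.nt)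
    · exact h3.trans ((three_le S.two_le _).trans
        (Nat.mul_le_mul_right _ (Nat.pow_le_pow_right (by have := S.two_le; omega) (by norm_num))))
  · obtain rfl := hl.2.2.1 rfl
    rw [bI, if_neg (by norm_num), if_neg (by norm_num), if_pos rfl]
    have h5 := S.card_le' (nK_E7 hp S.prime S.kac S.nt)
    rwa [nmk_E7] at h5
  · obtain rfl := hl.2.2.2 rfl
    rw [bI, if_neg (by norm_num), if_neg (by norm_num), if_neg (by norm_num)]
    have h5 := S.card_le' (nK_E8 hp S.prime S.kac S.nt)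
    rwa [nmk_E8, one_mul] at h5

/-- [CI6] -/
theorem boxCI6 : BoxCI6 := by
  intro p _ e σ g he hσ Φ y hy h1 h2
  obtain ⟨x, σ', w, ζ, c, c0, S, h⟩ := exists_sit (hp := hpE6) he hσ Φ hy h1 h2
  rw [h]
  refine ⟨fun ⟨hq, v, hv⟩ => ?_, fun h3 h4 => ?_⟩
  · rcases S.conn6 with h3 | h3
    · rcases nK_E6' hpE6 S.prime S.kac S.nt with h4 | ⟨f, m, hf, h4⟩
      · have h5 := S.card_conn h3 h4
        rwa [hq] at h5
      · exfalso
        have hp2 : p = 2 := (Nat.prime_dvd_prime_iff_eq Fact.out Nat.prime_two).1 (hq ▸ dvd_pow_self p he.ne')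
        have hm : ¬ ((orderOf y : ℕ) : ℤ) ∣ m := fun h5 => S.nt fun a => by
          have h6 := dvd_add (h4 a) (h5.mul_right (f a))
          rwa [sub_add_cancel] at h6
        refine hf.not_two hpE6 h1 (hp2 ▸ h2) (w * v) fun a => ?_
        have h5 := S.dvd_act a
        rw [hq, AddEquiv.trans_apply, repAut_apply, hv, ← rep_mul_apply] at h5
        refine ((Nat.prime_iff_prime_int.1 h1).dvd_or_dvd (a := m) ?_).resolve_left hm
        have h6 := dvd_add (dvd_sub h5 (h4 (rep CoxeterMatrix.E₆.toCoxeterSystem hpE6.isCartan (w * v) a))) ((h4 a).mul_left 2)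
        convert h6 using 1
        push_cast
        ring
    · rw [hq] at h3
      exact h3.trans (by norm_num)
  · rcases S.conn6 with h5 | h5
    · rcases exists_fun_of_kac hpE6 (Or.inr (Or.inl rfl)) S.prime S.kac S.nt with ⟨i, h6, h7⟩ | ⟨f, hf, a, h6, h7⟩
      · have h8 : nK chevE6 6 (orderOf y) c ≤ 24 := by
          rw [nK_eq_nri h7, h3]
          rw [h3, hrE6] at h6
          obtain rfl : i = 3 := by
            clear h7
            revert h6 i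
            decide
          exact nri_E6.2.le.trans (by norm_num)
        exact (S.card_conn h5 h8).trans (Nat.le_mul_of_pos_left _ (by norm_num))
      · exfalso
        rcases h4 with h4 | ⟨z, h8, h9, h10⟩
        · exact h4 (lc_of_conj (S.lc (Or.inr (Or.inl rfl)) h5 hf h6 h7))
        · refine h10 (Tp.of_conj (c := x) (tp_of_mem_DZ (hp := hpE6) S.prime S.ne S.mem ⟨1, by rw [pow_one, S.pow]⟩
            (h5 _ (conj_comm h9)) ⟨1, ?_⟩))
          rw [pow_one, h3, conj_pow, h8, mul_one, mul_inv_cancel]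
    · exact h5

theorem boxCI_of (_ : BoxCard) : BoxCI := boxCI

theorem boxCI6_of (_ : BoxCard) : BoxCI6 := boxCI6

end Cfsg.Agent.SB.Exc
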