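import Cfsg.Agent.SB.Exc.Card
import Cfsg.Agent.SB.Exc.Max.Frame
import Cfsg.Agent.DS.Nt.Kac

/-!
# S5765, exceptional groups: centralizers of semisimple elements, reduction to the torus (helper52)

* `exists_kacform` : an element of prime order is conjugate to an element of the torus in Kac form;
* `exists_red` : the centralizer in `Y ^ σ` of `y` is the centralizer of a given conjugate of `y` in the torus for a twisted `σ`;
* `card_DZ` : the order of the finite connected centralizer;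
* `card_cen` : the index of the connected centralizer.
-/

set_option autoImplicit false
set_option linter.unusedSectionVars false

namespace Cfsg.Agent.SB.Exc.CI

open CoxeterSystem Cfsg Cfsg.Lie Cfsg.Lie.ChevalleyDatum
open Cfsg.Agent.ChevalleyStructure Cfsg.Agent.ChevalleyStructure.Elts Cfsg.Agent.ChevalleyStructure.CoxeterGeom
  Cfsg.Agent.ChevalleyStructure.CoxeterGeomTypes
open Cfsg.Agent.Tits.Roots Cfsg.Agent.Tits.Core Cfsg.Agent.Nodes Cfsg.Agent.Nodes.Reps Cfsg.Agent.Nodes.BNOf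
  Cfsg.Agent.Nodes.RGDChev Cfsg.Agent.Nodes.Bruhat
open Cfsg.Agent.KFacts.RgdField Cfsg.Agent.KFacts.RgdChevCoord
open Cfsg.Agent.BpExc Cfsg.Agent.BpExc.TorCent Cfsg.Agent.BpExc.TorChev Cfsg.Agent.BpExc.Tow
  Cfsg.Agent.BpExc.TowChev Cfsg.Agent.BpExc.Fr Cfsg.Agent.BpExc.LangFr
open Cfsg.Agent.H469.Exc Cfsg.Agent.H795.SetCent Cfsg.Agent.H129.TorusChar Cfsg.Agent.DS.Ex
open Cfsg.Agent.H931.KC Cfsg.Agent.DS.Nt

variable {D : ChevalleyDatum} {l : ℕ} {M : CoxeterMatrix (Fin l)} {hp : IsType D l M} {p : ℕ} [Fact p.Prime]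
  {e : ℕ} {σ : MulAut (YY D p)} {g : (Fin l → ℤ) ≃+ (Fin l → ℤ)}

theorem fq (he : 0 < e) (hσ : IsFrob p e σ) : Card.Fq p (D.group (KK p)).subtype σ e := by
  obtain ⟨n, hn, h⟩ := Sig.exists_pow_frob (locFin p) hσ
  exact ⟨he, n, hn, fun y => by rw [mul_comm]; exact h y⟩

variable (hp) in
/-- **The Kac form.** -/
theorem exists_kacform {r : ℕ} (hr' : r.Prime) (hrp : r ≠ p) {y : YY D p} (hy : y ^ r = 1) (h1 : y ≠ 1) :
    ∃ (x : YY D p) (ζ : KK p) (c : Fin l → ℕ) (c0 : ℕ), IsPrimitiveRoot ζ r ∧ Kac D l r c c0 ∧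
      x * y * x⁻¹ ∈ TT D (KK p) ∧ (∀ a, cX hp (x * y * x⁻¹) a = ζ ^ bb c a) ∧ ¬ ∀ a, (r : ℤ) ∣ bb c a := by
  obtain ⟨z, hz⟩ := exists_conj_T hp hr' hrp (n := 1) (by rw [pow_one]; exact hy)
  obtain ⟨ζ, hζ⟩ := exists_prim (p := p) hr' hrp
  have hpow : (z * y * z⁻¹) ^ r = 1 := by rw [conj_pow, hy, mul_one, mul_inv_cancel]
  obtain ⟨w, c, c0, K, h2, -⟩ := exists_kac' hp hr'.pos hζ hz hpow
  obtain ⟨k, h3, h4⟩ := exists_move (hp := hp) hz w
  have e1 : k * z * y * (k * z)⁻¹ = k * (z * y * z⁻¹) * k⁻¹ := by group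
  rw [← e1] at h3 h4
  have h5 : ∀ x, cX hp (k * z * y * (k * z)⁻¹) x = ζ ^ bb c x := fun x => by rw [h4, h2]; rfl
  refine ⟨k * z, ζ, c, c0, hζ, K, h3, h5, fun h => h1 ?_⟩
  have h6 : k * z * y * (k * z)⁻¹ = 1 := cX_inj hp h3 (one_mem _) fun i => by
    rw [h5, cX_one, hζ.zpow_eq_one_iff_dvd]
    exact h _
  exact conj_eq_one_iff.1 h6

/-- **The reduction to the torus.** -/
theorem exists_red (he : 0 < e) (hσ : IsFrob p e σ)
    (Φ : Fr M.toCoxeterSystem hp.isCartan (TT D (KK p)) (XX D l (KK p)) σ g) {y x : YY D p} (hy : σ y = y)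
    (hx : x * y * x⁻¹ ∈ TT D (KK p)) : ∃ (σ' : MulAut (YY D p)) (w : M.Group), IsFrob p e σ' ∧
      Fr M.toCoxeterSystem hp.isCartan (TT D (KK p)) (XX D l (KK p)) σ'
        (g.trans (repAut M.toCoxeterSystem hp.isCartan w)) ∧ σ' (x * y * x⁻¹) = x * y * x⁻¹ ∧
      Nat.card ↥(DL.fix σ ⊓ Subgroup.centralizer {y}) =
        Nat.card ↥(DL.fix σ' ⊓ Subgroup.centralizer {x * y * x⁻¹}) := by
  obtain ⟨z, -, ⟨w, hw⟩, -, h1⟩ := Max.exists_conj_le_T (DL.Ex.chevFr hp (locFin p) he hσ Φ) (Z := {y})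
    (fun a ha => by rw [ha, hy]; rfl) (x := x⁻¹) (Subgroup.mem_top _) (fun a ha => by rw [ha, inv_inv]; exact hx)
  have h2 : z⁻¹ * y * z = x * y * x⁻¹ := by rw [h1 y rfl, inv_inv]
  have h3 : RP hp p w (z⁻¹ * σ z) := (DS.Nt.rp_congr (TLe hp p) _ _).2 hw
  have h4 : ∀ c, (MulAut.conj (z⁻¹ * σ z) * σ) (z⁻¹ * c * z) = z⁻¹ * σ c * z := fun c => by
    rw [MulAut.mul_apply, MulAut.conj_apply, map_mul, map_mul, map_inv]
    group
  refine ⟨MulAut.conj (z⁻¹ * σ z) * σ, w, hσ.conj_mul _, h3.fr.mul Φ, by rw [← h2, h4, hy], ?_⟩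
  have h5 : (DL.fix σ ⊓ Subgroup.centralizer {y}).map (MulAut.conj z⁻¹).toMonoidHom =
      DL.fix (MulAut.conj (z⁻¹ * σ z) * σ) ⊓ Subgroup.centralizer {x * y * x⁻¹} := by
    ext c
    obtain ⟨c, rfl⟩ := (MulAut.conj z⁻¹).surjective c
    refine (Subgroup.mem_map_iff_mem (MulAut.conj z⁻¹).injective).trans ?_
    rw [MulAut.conj_apply, inv_inv, Subgroup.mem_inf, Subgroup.mem_inf, DL.mem_fix, DL.mem_fix, h4, ← h2,
      Subgroup.mem_centralizer_singleton_iff, Subgroup.mem_centralizer_singleton_iff]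
    refine and_congr ⟨fun h => by rw [h], fun h => mul_left_cancel (mul_right_cancel h)⟩ ⟨fun h => ?_, fun h => ?_⟩
    · calc z⁻¹ * c * z * (z⁻¹ * y * z) = z⁻¹ * (c * y) * z := by group
        _ = z⁻¹ * (y * c) * z := by rw [h]
        _ = _ := by group
    · calc c * y = z * (z⁻¹ * c * z * (z⁻¹ * y * z)) * z⁻¹ := by group
        _ = z * (z⁻¹ * y * z * (z⁻¹ * c * z)) * z⁻¹ := by rw [h]
        _ = _ := by group
  rw [← h5, Subgroup.card_map_of_injective (MulAut.conj z⁻¹).injective]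

theorem ncard_Ps {t : YY D p} (ht : t ∈ TT D (KK p)) : l + (Ps hp p {t}).ncard = dd p t := by
  classical
  rw [dd_tor hp ht, ← Set.ncard_coe_finset,
    ← Set.ncard_image_of_injective _ (f := fun s : Fin D.nroots => vec D l s) fun r s h => Fin.ext (vec_inj hp r.2 s.2 h)]
  congr 2
  ext a
  rw [mem_Ps (Set.singleton_subset_iff.2 ht)]
  constructor
  · rintro ⟨h1, h2⟩
    obtain ⟨s, hs, rfl⟩ := (isRoot_iff hp M.toCoxeterSystem a).1 h1
    exact ⟨⟨s, hs⟩, by simpa using h2, rfl⟩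
  · rintro ⟨s, hs, rfl⟩
    exact ⟨isRoot_vec hp M.toCoxeterSystem s.2, by simpa using hs⟩

/-- the order of the finite connected centralizer, for an abstract datum -/
theorem card_cen_dat {k : Type} [Field k] [CharP k p] [IsAlgClosed k] {Y : Type} [Group Y] {N : Type} [Fintype N]
    [DecidableEq N] {ρ : Y →* GL N k} {F : MulAut Y} {G : Subgroup Y} (h : Card.Fq p ρ F e) (D₀ : DL.Datum p ρ F G)
    {Z : Set Y} (hZ : Z ⊆ D₀.T) (hF : ∀ a ∈ D₀.Sz Z, D₀.g a ∈ D₀.Sz Z) :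
    Nat.card ↥(DL.GF F (D₀.cen Z)) ≤ (p ^ e) ^ (D₀.Sz Z).ncard * (p ^ e + 1) ^ Fintype.card D₀.R := by
  have h1 := h.card_G (D₀.sub hZ hF rfl)
  have h2 : {a | (D₀.sub hZ hF rfl).Rt a}.ncard = (D₀.Sz Z).ncard := by
    rw [← D₀.io_roots]
    exact (Set.ncard_image_of_injective _ (D₀.io_injective _)).symm
  rw [h2] at h1
  exact h1

/-- **The order of the finite connected centralizer.** -/
theorem card_DZ (he : 0 < e) (hσ : IsFrob p e σ)
    (Φ : Fr M.toCoxeterSystem hp.isCartan (TT D (KK p)) (XX D l (KK p)) σ g) {t : YY D p} (ht : t ∈ TT D (KK p))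
    (hσt : σ t = t) {n : ℕ} (hn : dd p t ≤ l + n) :
    Nat.card ↥(DL.fix σ ⊓ DZ hp p {t}) ≤ (p ^ e) ^ n * (p ^ e + 1) ^ l := by
  let D₀ := DL.Ex.chevFr hp (locFin p) he hσ Φ
  have hZ : ({t} : Set (YY D p)) ⊆ D₀.T := Set.singleton_subset_iff.2 ht
  have hχ : ∀ a, D₀.χ a t = cX hp t a := fun a => by
    obtain ⟨c, rfl⟩ := (DL.Ex.mem_TT_iff hp t).1 ht
    exact (D₀.χ_τ a c).trans (DL.Ex.cX_tau hp c a).symm
  have hS : D₀.Sz {t} = Ps hp p {t} := by
    ext a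
    refine Iff.trans ?_ (mem_Ps (hp := hp) (a := a) (Set.singleton_subset_iff.2 ht)).symm
    refine and_congr_right fun _ => forall_congr' fun z => forall_congr' fun hz => ?_
    rw [hz, hχ]
  have hC : D₀.cen {t} = DZ hp p {t} := by
    have h0 : D₀.cen {t} = D₀.T ⊔ D₀.S (Ps hp p {t}) := congrArg (fun A => D₀.T ⊔ D₀.S A) hS
    exact h0.trans (sup_comm _ _)
  have h1 := card_cen_dat (fq he hσ) D₀ hZ fun a => D₀.g_mem_Sz hZ fun z hz => by rw [hz, hσt]; rfl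
  have h2 : (D₀.Sz {t}).ncard = (Ps hp p {t}).ncard := congrArg Set.ncard hS
  have h3 : Fintype.card D₀.R = l := Fintype.card_fin l
  have h4 := ncard_Ps (hp := hp) ht
  rw [h2, h3, hC] at h1
  rw [inf_comm]
  exact h1.trans (Nat.mul_le_mul_right _ (Nat.pow_le_pow_right (pow_pos (Fact.out : p.Prime).pos e) (by omega)))

/-- **The index of the connected centralizer.** -/
theorem card_cen {r : ℕ} (hr' : r.Prime) (hrp : r ≠ p) {t : YY D p} (ht : t ∈ TT D (KK p)) (htr : t ^ r = 1)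
    (H : Subgroup (YY D p)) : Nat.card ↥(H ⊓ Subgroup.centralizer {t}) ≤ nmk D l * Nat.card ↥(H ⊓ DZ hp p {t}) := by
  have := finW hp
  have hZ : ({t} : Set (YY D p)) ⊆ TT D (KK p) := Set.singleton_subset_iff.2 ht
  have h1 := card_PP_le hp (cast_ne_zero hr' hrp) ht htr
  rw [card_mk] at h1
  have hle : H ⊓ DZ hp p {t} ≤ H ⊓ Subgroup.centralizer {t} :=
    inf_le_inf_left _ fun c hc => Subgroup.mem_centralizer_singleton_iff.2 (DZ_comm hZ hc rfl)
  have hform : ∀ c : ↥(H ⊓ Subgroup.centralizer {t}), ∃ w : ↥(PP M.toCoxeterSystem hp.isCartan (ch hp) t),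
      ∃ m ∈ Mz hp p {t}, ∃ k, RP hp p w k ∧ (∀ s ∈ ({t} : Set (YY D p)), k * s = s * k) ∧ (c : YY D p) = m * k := fun c => by
    obtain ⟨m, hm, w, hw, k, h2, h3, h4⟩ := form hp (Set.finite_singleton t) hZ (c := (c : YY D p)) fun s hs => by
      rw [hs]
      exact Subgroup.mem_centralizer_singleton_iff.1 c.2.2
    exact ⟨⟨w, mem_PP_of_PPZ hw⟩, m, hm, k, h2, h3, h4⟩
  choose f hf using hform
  have h2 := Card.card_le_mul ((H ⊓ DZ hp p {t}).subgroupOf (H ⊓ Subgroup.centralizer {t})) f fun a b hab => by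
    obtain ⟨m, hm, k, h3, h4, h5⟩ := hf a
    obtain ⟨m', hm', k', h3', -, h5'⟩ := hf b
    refine ⟨(a⁻¹ * b).2.1, ?_⟩
    rw [← hab] at h3'
    have h6 := h3.inv.mul h3'
    rw [inv_mul_cancel] at h6
    have h7 := h3.inv.conj_Mz hZ (fun s hs => by
      rw [inv_mul_eq_iff_eq_mul, ← mul_assoc, h4 s hs, mul_inv_cancel_right]) (mul_mem (inv_mem hm) hm')
    have e : ((a⁻¹ * b : ↥(H ⊓ Subgroup.centralizer {t})) : YY D p) = k⁻¹ * (m⁻¹ * m') * k⁻¹⁻¹ * (k⁻¹ * k') := by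
      rw [Subgroup.coe_mul, Subgroup.coe_inv, h5, h5']
      group
    show ((a⁻¹ * b : ↥(H ⊓ Subgroup.centralizer {t})) : YY D p) ∈ DZ hp p {t}
    rw [e]
    exact mul_mem (Mz_le_DZ h7) (T_le_DZ h6.mem_T)
  rw [Nat.card_congr (Subgroup.subgroupOfEquivOfLe hle).toEquiv] at h2
  exact h2.trans (Nat.mul_le_mul_right _ h1)

/-- the connected case -/
theorem cen_eq {t : YY D p} (ht : t ∈ TT D (KK p)) (h : ∀ c : YY D p, c * t = t * c → c ∈ DZ hp p {t}) :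
    Subgroup.centralizer {t} = DZ hp p {t} :=
  le_antisymm (fun c hc => h c (Subgroup.mem_centralizer_singleton_iff.1 hc))
    fun _ hc => Subgroup.mem_centralizer_singleton_iff.2 (DZ_comm (Set.singleton_subset_iff.2 ht) hc rfl)

end Cfsg.Agent.SB.Exc.CI
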